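import Mathlib
import Cfsg.Agent.Lib.H1Orth.Refl4
import Cfsg.Agent.Lib.Classical.Orth.Models

/-! The explicit data and the kernel computations for the three small orthogonal groups. -/

set_option autoImplicit false

namespace Cfsg.Agent.Lib.H1Orth.Data

open Cfsg.Agent.Lib.H1Orth Cfsg.Agent.Lib.Classical.Orth.Models
open Cfsg.Agent.Lib.Classical.Orth.CartanDieudonne QuadraticMap

set_option maxHeartbeats 0

def QT4 : ℕ := 30584
def QT6 : ℕ := 10619368485066599584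
def QT8 : ℕ := 47759223636507730209801550344371119078934783318887441289834004656231277002752

def e4 : (Fin 1 ⊕ Fin 1) ⊕ Fin 2 ≃ Fin 4 :=
  (Equiv.sumCongr finSumFinEquiv (Equiv.refl _)).trans finSumFinEquiv
def e6 : (Fin 2 ⊕ Fin 2) ⊕ Fin 2 ≃ Fin 6 :=
  (Equiv.sumCongr finSumFinEquiv (Equiv.refl _)).trans finSumFinEquiv
def e8 : Fin 4 ⊕ Fin 4 ≃ Fin 8 := finSumFinEquiv

theorem hQT4 : ∀ c, c < 2 ^ 4 → (minusForm 1 (ZMod 2) 1 1) (dec e4 c) = cond (tb QT4 c) 1 0 := by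
  intro c hc
  rw [coe_minusForm_apply]
  revert c
  decide +kernel

theorem hQT6 : ∀ c, c < 2 ^ 6 → (minusForm 2 (ZMod 2) 1 1) (dec e6 c) = cond (tb QT6 c) 1 0 := by
  intro c hc
  rw [coe_minusForm_apply]
  revert c
  decide +kernel

theorem hQT8 : ∀ c, c < 2 ^ 8 → (plusForm 4 (ZMod 2)) (dec e8 c) = cond (tb QT8 c) 1 0 := by
  intro c hc
  rw [coe_plusForm_apply]
  revert c
  decide +kernel

def t4 : Word := [(3,5),(4,8)]
def steps4 : List (Word × List (List (List ℕ))) :=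
  [ ([(3,5)], [[[],[],[]], [[0,0],[0,0]]]) ]
theorem m4 : master 4 16 QT4 t4 steps4 3 5 15 = true := by decide +kernel
theorem r4 : chkRefl4 16 QT4 8 = true := by decide +kernel

def t6 : Word := [(5,11),(7,10),(16,32)]
def steps6 : List (Word × List (List (List ℕ))) :=
  [ ([(5,11)], [[[],[],[]], [[0],[],[0,0]]]),
    ([(7,10)], [[[],[],[]], [[0],[],[0,0]]]),
    ([(16,32)], [[[],[],[]], [[0],[],[0,0]]]),
    ([(28,47)], [[[],[],[]], [[1,2,2,3,3],[],[1,2,2,3,3,1,2,2,3,3]]]),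
    ([(31,38)], [[[],[],[]], [[0],[],[0,0]]]) ]
theorem m6 : master 6 64 QT6 t6 steps6 5 11 15 = true := by decide +kernel

def t8 : Word := [(17,35),(19,34),(68,140),(76,136)]
def steps8 : List (Word × List (List (List ℕ))) :=
  [ ([(17,35)], [[[],[],[]], [[0],[],[0,0]]]),
    ([(19,34)], [[[],[],[]], [[0],[],[0,0]]]),
    ([(68,140)], [[[],[],[]], [[0],[],[0,0]]]),
    ([(76,136)], [[[],[],[]], [[0],[],[0,0]]]),
    ([(78,139)], [[[],[],[]], [[1,2,3,4,4],[],[1,2,3,4,4,1,2,3,4,4]]]),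
    ([(101,141)], [[[],[],[]], [[1,2,2,3,3,4],[],[1,2,2,3,3,4,1,2,2,3,3,4]]]) ]
theorem m8 : master 8 256 QT8 t8 steps8 17 35 15 = true := by decide +kernel

theorem aniso (z₁ z₂ : ZMod 2) (h : z₁ ^ 2 + 1 * z₁ * z₂ + 1 * z₂ ^ 2 = 0) : z₁ = 0 ∧ z₂ = 0 := by
  revert z₁ z₂
  decide



/-- Transport along the identification of the function underlying a quadratic form. -/
theorem transfer {ι : Type} [Fintype ι] [DecidableEq ι] {Q : QuadraticForm (ZMod 2) (ι → ZMod 2)}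
    {q : (ι → ZMod 2) → ZMod 2} (hq : ⇑Q = q)
    (H : ∀ f : ↥(Cfsg.Omega (ZMod 2) (⇑Q)) → (ι → ZMod 2),
      (∀ g h : ↥(Cfsg.Omega (ZMod 2) (⇑Q)), f (g * h) = f g + Matrix.mulVec (((g : ↥(Cfsg.isometryGroup (ZMod 2) (⇑Q))) : GL ι (ZMod 2)) : Matrix ι ι (ZMod 2)) (f h)) →
      ∃ v : ι → ZMod 2, ∀ g : ↥(Cfsg.Omega (ZMod 2) (⇑Q)), f g = Matrix.mulVec (((g : ↥(Cfsg.isometryGroup (ZMod 2) (⇑Q))) : GL ι (ZMod 2)) : Matrix ι ι (ZMod 2)) v - v) :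
    ∀ f : ↥(Cfsg.Omega (ZMod 2) q) → (ι → ZMod 2),
      (∀ g h : ↥(Cfsg.Omega (ZMod 2) q), f (g * h) = f g + Matrix.mulVec (((g : ↥(Cfsg.isometryGroup (ZMod 2) q)) : GL ι (ZMod 2)) : Matrix ι ι (ZMod 2)) (f h)) →
      ∃ v : ι → ZMod 2, ∀ g : ↥(Cfsg.Omega (ZMod 2) q), f g = Matrix.mulVec (((g : ↥(Cfsg.isometryGroup (ZMod 2) q)) : GL ι (ZMod 2)) : Matrix ι ι (ZMod 2)) v - v := by
  subst hq
  exact H

end Cfsg.Agent.Lib.H1Orth.Data
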